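import Groth.Agent.SepRadLib.Extend
import Groth.Agent.SepNormLib.Main
import Groth.Agent.GeomRedFieldLib.Scheme
import Groth.Agent.VecGrpLib.WLUnipBridge
import Groth.Agent.BorelLib.RedClosed
import Groth.Agent.CentreUnipLib.Main
import Groth.Agent.UnipHopfLib.BaseChange
import Groth.Agent.UnipHopfLib.Socle

/-!
Unipotent normal subgroups over separable extensions lie in one defined over the base field.
-/

set_option autoImplicit false
set_option linter.style.haveILetI false
set_option linter.unusedSectionVars false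
set_option backward.isDefEq.respectTransparency false
set_option maxHeartbeats 1600000
set_option synthInstance.maxHeartbeats 400000

noncomputable section

universe u

open CategoryTheory CategoryTheory.Limits MonoidalCategory CartesianMonoidalCategory AlgebraicGeometry
open scoped MonObj TensorProduct
open Groth.Agent
open CoactBr (sp)

attribute [-instance] CategoryTheory.Hom.commGroup
attribute [local instance] CoactBr.braidedAlgSpecOf

namespace Groth.Agent.SepRad

variable {k : Type u} [Field k]

/-- A connected group without geometric subtori has none over any field extension. -/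
theorem hasNoSubtorus_bc (U : Over (Spec (CommRingCat.of k))) [GrpObj U] [IsAffine U.left] [Smooth U.hom]
    [ConnectedSpace U.left] (hno : ∀ s : ↥(Spec (CommRingCat.of k)),
      Red.HasNoSubtorus (AlgebraicClosure ((Spec (CommRingCat.of k)).residueField s)) (Red.geomFibre s U))
    (L : Type u) [Field L] (t : Spec (CommRingCat.of L) ⟶ Spec (CommRingCat.of k)) :
    Red.HasNoSubtorus L (Red.bc t U) := by
  obtain ⟨A, _, _, v, hv, hA, hgr, hK⟩ := Groth.Agent.VecGrp.exists_unip U hno
  haveI := hv; haveI := hA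
  letI : Algebra k L := (Spec.preimage t).hom.toAlgebra
  have ht : DiagRep.baseHom k L = t := Spec.map_preimage _
  rw [← ht]
  intro T _ j _ _ hT
  haveI : IsMonHom (asIso (DiagRep.bcHom k L A)).hom := DiagRep.isMonHom_bcHom k L A
  haveI hb : IsMonHom (M := Red.bc (DiagRep.baseHom k L) (sp k A)) (N := Red.bc (DiagRep.baseHom k L) U)
      ((Over.pullback (DiagRep.baseHom k L)).map v.hom) := DiagRep.isMonHom_bc_map _ v.hom
  let e : sp L (L ⊗[k] A) ≅ Red.bc (DiagRep.baseHom k L) U :=
    (asIso (DiagRep.bcHom k L A)).symm ≪≫ (Over.pullback (DiagRep.baseHom k L)).mapIso v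
  haveI : IsMonHom e.hom := by
    show IsMonHom ((asIso (DiagRep.bcHom k L A)).inv ≫ (Over.pullback (DiagRep.baseHom k L)).map v.hom)
    infer_instance
  let u : T ⟶ sp L (L ⊗[k] A) := j ≫ e.inv
  haveI : Mono u := @mono_comp _ _ _ _ _ j inferInstance _ (IsIso.mono_of_iso _)
  have hu : u = 1 := CentreUnip.eq_one_of_multType
    (UnipHopf.isUnipotent_of_exhaustive (UnipHopf.exhaustive_baseChange hK)) (RedRank.isMultTypeFT_of_isTorus hT) u
  have h1 : 𝟙 T = toUnit T ≫ η[T] := by
    rw [← cancel_mono u, Category.id_comp, Category.assoc, IsMonHom.one_hom u, ← Hom.one_def, hu]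
  exact BorelLib.isTrivialGrp_iff.2 h1.symm

/-- The base change of a connected smooth group over a field is connected. -/
theorem connectedSpace_bc (U : Over (Spec (CommRingCat.of k))) [GrpObj U] [Smooth U.hom] [ConnectedSpace U.left]
    {L : Type u} [Field L] (t : Spec (CommRingCat.of L) ⟶ Spec (CommRingCat.of k)) : ConnectedSpace (Red.bc t U).left := by
  haveI := AlbLib.geometricallyIntegral_grp U
  haveI : GeometricallyIntegral (Red.bc t U).hom := inferInstanceAs (GeometricallyIntegral (pullback.snd U.hom t))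
  exact AlbLib.connectedSpace_gi _

variable {K : Type u} [Field K] [Algebra k K] [Algebra.IsGeometricallyReduced k K]

local notation "ξ" => Spec.map (CommRingCat.ofHom (algebraMap k K))

/-- Comparison of two ways of transporting a morphism to a larger base. -/
theorem comparison_left {S T T' U : Scheme.{u}} (p : T ⟶ S) (q : U ⟶ T) (r : T' ⟶ S) (t : U ⟶ T') (d : U ⟶ S)
    (h₁ : q ≫ p = d) (h₂ : t ≫ r = d) {G : Over S} [GrpObj G] {L : Over T} (l : L ⟶ Red.bc p G) (f : (Over.map p).obj L ⟶ G)
    (hf : f.left = l.left ≫ pullback.fst G.hom p)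
    (c : pullback L.hom q ⟶ pullback ((Over.map p).obj L).hom r)
    (hc₁ : c ≫ pullback.fst _ _ = pullback.fst L.hom q) (hc₂ : c ≫ pullback.snd _ _ = pullback.snd L.hom q ≫ t) :
    ((Over.pullback q).map l ≫ ((ActBC.bcCompIso q p G h₁).hom ≫ (ActBC.bcCompIso t r G h₂).inv)).left ≫
      pullback.fst (Red.bc r G).hom t = c ≫ ((Over.pullback r).map f).left := by
  have e2 : (ActBC.bcCompIso t r G h₂).inv.left ≫
      pullback.fst (Red.bc r G).hom t ≫ pullback.fst G.hom r = pullback.fst G.hom d := by
    rw [← ActBC.bcCompIso_hom_left_fst (h := h₂), ← Category.assoc, ← Over.comp_left, Iso.inv_hom_id,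
      Over.id_left, Category.id_comp]
  refine pullback.hom_ext ?_ ?_
  · simp only [Over.comp_left, Category.assoc]
    rw [e2, ActBC.bcCompIso_hom_left_fst, ActBC.pullback_map_left_fst, ActBC.pullback_map_left_fst_assoc, hf,
      reassoc_of% hc₁]
  · rw [Category.assoc, Category.assoc]
    have e3 : pullback.fst (Red.bc r G).hom t ≫ pullback.snd G.hom r = pullback.snd (Red.bc r G).hom t ≫ t :=
      pullback.condition
    rw [e3, ← Category.assoc,
      show ((Over.pullback q).map l ≫ ((ActBC.bcCompIso q p G h₁).hom ≫ (ActBC.bcCompIso t r G h₂).inv)).left ≫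
        pullback.snd (Red.bc r G).hom t = pullback.snd L.hom q from Over.w _,
      show ((Over.pullback r).map f).left ≫ pullback.snd G.hom r = pullback.snd ((Over.map p).obj L).hom r from
        Over.w ((Over.pullback r).map f), hc₂]

/-- Points of a base change lying over a given point of the common base change. -/
theorem exists_point_over {S T T' U : Scheme.{u}} (p : T ⟶ S) (q : U ⟶ T) (r : T' ⟶ S) (t : U ⟶ T')
    (h : q ≫ p = t ≫ r) (L : Over T) (x : ↥(pullback ((Over.map p).obj L).hom r)) (z : U)
    (hz : pullback.lift q t h z = pullback.lift (pullback.fst ((Over.map p).obj L).hom r ≫ L.hom) (pullback.snd _ _)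
      (by rw [Category.assoc]; exact pullback.condition) x) :
    ∃ (c : pullback L.hom q ⟶ pullback ((Over.map p).obj L).hom r) (y : ↥(pullback L.hom q)),
      c ≫ pullback.fst _ _ = pullback.fst L.hom q ∧ c ≫ pullback.snd _ _ = pullback.snd L.hom q ≫ t ∧ c y = x := by
  let a : pullback ((Over.map p).obj L).hom r ⟶ pullback p r :=
    pullback.lift (pullback.fst _ r ≫ L.hom) (pullback.snd _ _) (by rw [Category.assoc]; exact pullback.condition)
  let c : pullback L.hom q ⟶ pullback ((Over.map p).obj L).hom r :=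
    pullback.lift (pullback.fst L.hom q) (pullback.snd L.hom q ≫ t) (by
      show pullback.fst L.hom q ≫ L.hom ≫ p = _
      rw [pullback.condition_assoc, h, Category.assoc])
  have inner : IsPullback (pullback.fst ((Over.map p).obj L).hom r) a L.hom (pullback.fst p r) := by
    refine IsPullback.of_bot ?_ (by simp [a]) (IsPullback.of_hasPullback p r)
    show IsPullback _ (a ≫ pullback.snd p r) (L.hom ≫ p) r
    rw [show a ≫ pullback.snd p r = pullback.snd _ r from pullback.lift_snd _ _ _]
    exact IsPullback.of_hasPullback ((Over.map p).obj L).hom r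
  have sq : IsPullback c (pullback.snd L.hom q) a (pullback.lift q t h) := by
    refine IsPullback.of_right ?_ ?_ inner
    · rw [show c ≫ pullback.fst _ _ = pullback.fst L.hom q from pullback.lift_fst _ _ _,
        pullback.lift_fst]
      exact IsPullback.of_hasPullback L.hom q
    · refine pullback.hom_ext ?_ ?_
      · simp [c, a, pullback.condition]
      · simp [c, a]
  obtain ⟨y, hy, -⟩ := Scheme.exists_preimage_of_isPullback sq x z hz.symm
  exact ⟨c, y, pullback.lift_fst _ _ _, pullback.lift_snd _ _ _, hy⟩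

section Big

variable {E : Type u} [Field E] [Algebra k E] [IsAlgClosed E] [Algebra.IsAlgebraic k E]

local notation "σ" => DiagRep.baseHom k E

omit [Algebra k E] [Algebra.IsAlgebraic k E] in
/-- The radical contains the normal subgroups without subtorus, transported to an extension. -/
theorem mem_range_radical {Ω : Type u} [Field Ω] [IsAlgClosed Ω] [Algebra E Ω] {GE N : Over (Spec (CommRingCat.of E))}
    [GrpObj GE] [GrpObj N] [IsAffine GE.left] [Smooth GE.hom] [ConnectedSpace GE.left] {n : N ⟶ GE}
    (hN : Par.IsUnipotentRadical n) {M GΩ : Over (Spec (CommRingCat.of Ω))} [GrpObj M] [GrpObj GΩ] [Smooth M.hom]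
    [ConnectedSpace M.left] (l : M ⟶ GΩ) [IsMonHom l] [IsClosedImmersion l.left] (hl : AlgGrp.IsNormalHom l)
    (hno : Red.HasNoSubtorus Ω M) (β : GΩ ⟶ Red.bc (DiagRep.baseHom E Ω) GE) [IsIso β] [IsMonHom β] (y : M.left) :
    ((l ≫ β).left ≫ pullback.fst GE.hom (DiagRep.baseHom E Ω)) y ∈ Set.range n.left := by
  haveI : IsIso β.left := inferInstanceAs (IsIso ((Over.forget _).map β))
  haveI : IsClosedImmersion (l ≫ β).left := by rw [Over.comp_left]; infer_instance
  exact range_subset_radical n hN (l ≫ β) (BorelLib.isNormalHom_comp_iso l β hl) hno ⟨y, rfl⟩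

/-- The extension of the morphism attached to a unipotent normal subgroup lands in the radical. -/
theorem range_map_subset (Ω : Type u) [Field Ω] [IsAlgClosed Ω] [Algebra K Ω] [Algebra k Ω] [IsScalarTower k K Ω] {G : Over (Spec (CommRingCat.of k))} [GrpObj G] [IsAffine G.left] [Smooth G.hom]
    [ConnectedSpace G.left] [IsAffine (Red.bc σ G).left] [Smooth (Red.bc σ G).hom] [ConnectedSpace (Red.bc σ G).left]
    {L' : Over (Spec (CommRingCat.of K))} [GrpObj L'] (l' : L' ⟶ Red.bc ξ G) [IsMonHom l']
    [IsClosedImmersion l'.left] [Smooth L'.hom] [ConnectedSpace L'.left] (hn : AlgGrp.IsNormalHom l')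
    (hno : ∀ s : ↥(Spec (CommRingCat.of K)),
      Red.HasNoSubtorus (AlgebraicClosure ((Spec (CommRingCat.of K)).residueField s)) (Red.geomFibre s L'))
    {N : Over (Spec (CommRingCat.of E))} [GrpObj N] (n : N ⟶ Red.bc σ G) (hN : Par.IsUnipotentRadical n) :
    Set.range ((Over.pullback σ).map (SepNormLib.down l')).left ⊆ Set.range n.left := by
  let X := SepNormLib.res (k := k) L'
  let f : X ⟶ G := SepNormLib.down l'
  let qΩ : Spec (CommRingCat.of Ω) ⟶ Spec (CommRingCat.of K) := DiagRep.baseHom K Ω
  let ξΩ : Spec (CommRingCat.of Ω) ⟶ Spec (CommRingCat.of k) := DiagRep.baseHom k Ω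
  have hqΩξ : qΩ ≫ ξ = ξΩ := by
    show Spec.map _ ≫ Spec.map _ = Spec.map _
    rw [← Spec.map_comp, ← CommRingCat.ofHom_comp, ← IsScalarTower.algebraMap_eq]
  haveI : IsAffine L'.left := by
    haveI : IsAffineHom G.hom := isAffineHom_of_isAffine G.hom
    haveI : IsAffineHom (Red.bc ξ G).hom := inferInstanceAs (IsAffineHom (pullback.snd G.hom ξ))
    haveI : IsAffine (Red.bc ξ G).left := isAffine_of_isAffineHom (Red.bc ξ G).hom
    exact isAffine_of_isAffineHom l'.left
  haveI : IsMonHom (M := Red.bc qΩ L') (N := Red.bc qΩ (Red.bc ξ G)) ((Over.pullback qΩ).map l') :=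
    DiagRep.isMonHom_bc_map qΩ l'
  haveI : IsClosedImmersion ((Over.pullback qΩ).map l').left := BorelLib.isClosedImmersion_bc qΩ l'
  haveI : Smooth (Red.bc qΩ L').hom := inferInstanceAs (Smooth (pullback.snd L'.hom qΩ))
  haveI := connectedSpace_bc L' qΩ
  have hM := hasNoSubtorus_bc L' hno Ω qΩ
  rintro _ ⟨x, rfl⟩
  let a : pullback X.hom σ ⟶ pullback ξ σ :=
    pullback.lift (pullback.fst X.hom σ ≫ L'.hom) (pullback.snd _ _) (by rw [Category.assoc]; exact pullback.condition)
  let π : pullback σ ξΩ ⟶ pullback ξ σ :=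
    pullback.lift (pullback.snd σ ξΩ ≫ qΩ) (pullback.fst σ ξΩ) (by rw [Category.assoc, hqΩξ]; exact pullback.condition.symm)
  haveI : Surjective π := by
    have outer : IsPullback (π ≫ pullback.snd ξ σ) (pullback.snd σ ξΩ) σ (qΩ ≫ ξ) := by
      rw [hqΩξ, show π ≫ pullback.snd ξ σ = pullback.fst σ ξΩ from pullback.lift_snd _ _ _]
      exact IsPullback.of_hasPullback σ ξΩ
    have sq : IsPullback π (pullback.snd σ ξΩ) (pullback.fst ξ σ) qΩ :=
      IsPullback.of_right outer (pullback.lift_fst _ _ _) (IsPullback.of_hasPullback ξ σ).flip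
    haveI : Surjective qΩ := TorusField.surjective_baseHom K Ω
    exact MorphismProperty.of_isPullback (P := @Surjective) sq.flip inferInstance
  obtain ⟨P, hP⟩ := π.surjective (a x)
  obtain ⟨τ, hτ, z, hz⟩ := SepNormLib.exists_embedding (k := k) (K := E) (F := Ω) P
  let b : Spec (CommRingCat.of Ω) ⟶ pullback ξ σ := pullback.lift qΩ τ (by rw [hqΩξ]; exact hτ.symm)
  have hb : b = pullback.lift τ (𝟙 _) (by rw [Category.id_comp]; exact hτ) ≫ π := by
    refine pullback.hom_ext ?_ ?_ <;> simp [b, π] <;> exact (Category.id_comp _).symm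
  have hbz : b z = a x := by rw [hb, Scheme.Hom.comp_apply, ← hP]; exact congrArg π hz
  obtain ⟨c, y, hc₁, hc₂, hy⟩ := exists_point_over ξ qΩ σ τ (by rw [hqΩξ]; exact hτ.symm) L' x z hbz
  -- the subgroup over the big field
  letI : Algebra E Ω := (Spec.preimage τ).hom.toAlgebra
  have hτ' : DiagRep.baseHom E Ω = τ := Spec.map_preimage _
  have hτσ : DiagRep.baseHom E Ω ≫ σ = ξΩ := by rw [hτ']; exact hτ
  let β : Red.bc qΩ (Red.bc ξ G) ≅ Red.bc (DiagRep.baseHom E Ω) (Red.bc σ G) :=
    ActBC.bcCompIso qΩ ξ G hqΩξ ≪≫ (ActBC.bcCompIso (DiagRep.baseHom E Ω) σ G hτσ).symm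
  haveI : IsMonHom β.hom := by
    show IsMonHom ((ActBC.bcCompIso qΩ ξ G hqΩξ).hom ≫ (ActBC.bcCompIso (DiagRep.baseHom E Ω) σ G hτσ).inv)
    infer_instance
  let lΩ : Red.bc qΩ L' ⟶ Red.bc qΩ (Red.bc ξ G) := (Over.pullback qΩ).map l'
  haveI : IsMonHom lΩ := DiagRep.isMonHom_bc_map qΩ l'
  haveI : IsClosedImmersion lΩ.left := BorelLib.isClosedImmersion_bc qΩ l'
  have hlΩn : AlgGrp.IsNormalHom lΩ := BorelLib.isNormalHom_bc qΩ l' hn
  have key := mem_range_radical hN lΩ hlΩn hM β.hom y
  have e1 : (lΩ ≫ β.hom).left ≫ pullback.fst (Red.bc σ G).hom (DiagRep.baseHom E Ω) = c ≫ ((Over.pullback σ).map f).left :=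
    comparison_left ξ qΩ σ (DiagRep.baseHom E Ω) ξΩ hqΩξ hτσ l' f (SepNormLib.down_left l') c hc₁ (by rw [hτ']; exact hc₂)
  rw [e1] at key
  rw [← hy]
  exact key

/-- A subgroup generated by the conjugates of a unipotent normal subgroup has no subtorus geometrically. -/
theorem hasNoSubtorus_generated {G : Over (Spec (CommRingCat.of k))} [GrpObj G] [IsAffine G.left] [Smooth G.hom]
    [ConnectedSpace G.left] {L' : Over (Spec (CommRingCat.of K))} [GrpObj L'] (l' : L' ⟶ Red.bc ξ G) [IsMonHom l']
    [IsClosedImmersion l'.left] [Smooth L'.hom] [ConnectedSpace L'.left] (hn : AlgGrp.IsNormalHom l')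
    (hno : ∀ s : ↥(Spec (CommRingCat.of K)),
      Red.HasNoSubtorus (AlgebraicClosure ((Spec (CommRingCat.of K)).residueField s)) (Red.geomFibre s L'))
    [GeometricallyReduced (SepNormLib.res (k := k) L').hom]
    {H : Over (Spec (CommRingCat.of k))} [GrpObj H] [Smooth H.hom] (j : H ⟶ G) [IsMonHom j] [IsClosedImmersion j.left]
    (fH : SepNormLib.res (k := k) L' ⟶ H) (hfj : fH ≫ j = SepNormLib.down l')
    (hrj : Set.range j.left.base = closure (GenSub.wordSet (SepNormLib.down l'))) :
    Red.HasNoSubtorus E (Red.bc σ H) := by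
  let X := SepNormLib.res (k := k) L'
  let f : X ⟶ G := SepNormLib.down l'
  haveI : Smooth (Red.bc σ G).hom := inferInstanceAs (Smooth (pullback.snd G.hom σ))
  haveI : IsAffine (Red.bc σ G).left := by
    haveI : IsAffineHom G.hom := isAffineHom_of_isAffine G.hom
    haveI : IsAffineHom (Red.bc σ G).hom := inferInstanceAs (IsAffineHom (pullback.snd G.hom σ))
    exact isAffine_of_isAffineHom (Red.bc σ G).hom
  haveI := connectedSpace_bc G σ
  obtain ⟨A, _, _, vE, hvE, hA, -⟩ := BorelLib.exists_setup (Red.bc σ G)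
  haveI := hvE; haveI := hA
  obtain ⟨N, _, n, hnm, hN, -⟩ := BorelLib.exists_unipotentRadical vE
  haveI := hnm
  haveI : IsClosedImmersion n.left := hN.2.1
  haveI : Mono n := DiagRep.mono_of_isClosedImmersion n inferInstance
  have hrange := range_map_subset (AlgebraicClosure K) l' hn hno n hN
  haveI : AlgebraicGeometry.IsReduced ((Over.pullback σ).obj X).left :=
    geometrically_iff_of_commRing_of_isClosedUnderIsomorphisms.mp
      (GeometricallyReduced.geometrically_isReduced (f := X.hom)) E
  obtain ⟨w, hw⟩ := DensePts.factors_of_range ((Over.pullback σ).map f) n hrange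
  have hd := GenSub.dense_carrier f j hrj (fun l => GenSub.word fH l) (fun l => SepNormLib.word_comp fH j hfj l)
  haveI := DiagRep.isMonHom_bc_map σ j
  haveI : UniversallyOpen σ := inferInstance
  have hdE : Dense (⋃ l : ULift.{u} (List Bool), Set.range ((Over.pullback σ).map (GenSub.word fH l.down)).left) := by
    refine (hd.preimage (pullback.fst H.hom σ).isOpenMap).mono ?_
    rw [Set.preimage_iUnion]
    exact Set.iUnion_mono fun l y hy => GenSub.mem_range_bc σ (GenSub.word fH l.down) y hy
  have hrng : Set.range ((Over.pullback σ).map j).left ⊆ Set.range n.left := by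
    rintro _ ⟨x, rfl⟩
    refine closure_minimal ?_ (n.left.isClosedEmbedding.isClosed_range.preimage
      ((Over.pullback σ).map j).left.continuous) (hdE x)
    refine Set.iUnion_subset fun l => ?_
    rintro _ ⟨q, rfl⟩
    obtain ⟨-, p, hp⟩ := GenSub.exists_word_bc σ f l.down
    obtain ⟨b, hb⟩ := GenSub.word_factors ((Over.pullback σ).map f) n w hw l.down
    refine ⟨(p ≫ b).left q, ?_⟩
    rw [← Scheme.Hom.comp_apply, ← Over.comp_left, Category.assoc, hb, hp, ← Scheme.Hom.comp_apply,
      ← Over.comp_left, ← Functor.map_comp, SepNormLib.word_comp fH j hfj]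
  haveI : Smooth (Red.bc σ H).hom := inferInstanceAs (Smooth (pullback.snd H.hom σ))
  haveI : AlgebraicGeometry.IsReduced (Red.bc σ H).left := AlgSpLib.isReduced_of_smooth (Red.bc σ H).hom
  obtain ⟨c, hc⟩ := DensePts.factors_of_range ((Over.pullback σ).map j) n hrng
  haveI : IsMonHom (c ≫ n) := by rw [hc]; infer_instance
  haveI : IsMonHom c := DiagRep.isMonHom_of_comp_mono c n
  haveI : IsClosedImmersion ((Over.pullback σ).map j).left := BorelLib.isClosedImmersion_bc σ j
  haveI : Mono ((Over.pullback σ).map j) := Over.mono_of_mono_left _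
  haveI : Mono c := mono_of_mono_fac hc
  intro T' _ t' _ _ hT'
  exact BorelLib.hasNoSubtorus_of_geom (IsLocalRing.closedPoint E) (hN.2.2.2.2.2.1 _).2 T' (t' ≫ c) hT'

end Big

/-- Unipotent normal subgroups over a separable extension lie in one defined over the base field. -/
theorem exists_unip_over_base {G : Over (Spec (CommRingCat.of k))} [GrpObj G] [IsAffine G.left] [Smooth G.hom]
    [ConnectedSpace G.left] {L' : Over (Spec (CommRingCat.of K))} [GrpObj L'] (l' : L' ⟶ Red.bc ξ G) [IsMonHom l']
    [IsClosedImmersion l'.left] [Smooth L'.hom] [ConnectedSpace L'.left] (hn : AlgGrp.IsNormalHom l')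
    (hno : ∀ s : ↥(Spec (CommRingCat.of K)),
      Red.HasNoSubtorus (AlgebraicClosure ((Spec (CommRingCat.of K)).residueField s)) (Red.geomFibre s L')) :
    ∃ (H : Over (Spec (CommRingCat.of k))) (_ : GrpObj H) (j : H ⟶ G) (φ : L' ⟶ Red.bc ξ H), IsMonHom j ∧
      IsClosedImmersion j.left ∧ Smooth H.hom ∧ QuasiCompact H.hom ∧ ConnectedSpace H.left ∧ AlgGrp.IsNormalHom j ∧
      φ ≫ (Over.pullback ξ).map j = l' ∧
      ∀ s : ↥(Spec (CommRingCat.of k)), ConnectedSpace (Red.geomFibre s H).left ∧
        Red.HasNoSubtorus (AlgebraicClosure ((Spec (CommRingCat.of k)).residueField s)) (Red.geomFibre s H) := by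
  let X := SepNormLib.res (k := k) L'
  let f : X ⟶ G := SepNormLib.down l'
  haveI : GeometricallyReduced ξ := GeomRedFieldLib.gr_str K
  haveI : GeometricallyReduced X.hom := SepNormLib.gr_smooth_comp L'.hom ξ
  haveI : AlgebraicGeometry.IsReduced X.left := GenSub.isReduced_of_gr X.hom
  obtain ⟨Γ, _, i, hi, hci, hred, hgr, hr, hv, f', hf'⟩ := GenSub.exists_generated f
  choose v hv using hv
  haveI := hi; haveI := hci; haveI := hred; haveI := hgr
  obtain ⟨sc, hsc⟩ := SepNormLib.exists_conj l' hn
  have hnorm : AlgGrp.IsNormalHom i :=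
    SepNormLib.exists_conj_generated f i v hv (GenSub.dense_carrier f i hr v hv) f' hf' sc hsc
  obtain ⟨H, _, e, he, hec, heo, hcH, hnH, her⟩ := SepNormLib.exists_normal_component (X := X) i hnorm
  haveI := he; haveI := hec; haveI := heo; haveI := hcH
  haveI : Mono i := Over.mono_of_mono_left i
  haveI : AlgebraicGeometry.IsReduced H.left := isReduced_of_isOpenImmersion e.left
  haveI : ConnectedSpace X.left := ‹ConnectedSpace L'.left›
  obtain ⟨fH, hfH⟩ : ∃ fH : X ⟶ H, fH ≫ e = f' := by
    refine DensePts.factors_of_range f' e ?_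
    rw [her]
    refine (isPreconnected_range f'.left.continuous).subset_connectedComponent
      ⟨((Over.map ξ).map (η[L'] : 𝟙_ (Over (Spec (CommRingCat.of K))) ⟶ L')).left.base (IsLocalRing.closedPoint K), ?_⟩
    have h1 : ((Over.map ξ).map (η[L'] : 𝟙_ (Over (Spec (CommRingCat.of K))) ⟶ L')) ≫ f' = toUnit _ ≫ η[Γ] := by
      rw [← cancel_mono i, Category.assoc, Category.assoc, hf', IsMonHom.one_hom]
      exact SepNormLib.down_one l'
    exact (congr($(h1).left.base _)).trans (congrArg (η[Γ]).left.base (Subsingleton.elim (α := PrimeSpectrum k) _ _))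
  let j : H ⟶ G := e ≫ i
  haveI : IsClosedImmersion j.left := by rw [Over.comp_left]; infer_instance
  haveI : LocallyOfFiniteType H.hom := by rw [← Over.w j]; infer_instance
  haveI : QuasiCompact H.hom := by rw [← Over.w j]; infer_instance
  haveI : IsAffine H.left := isAffine_of_isAffineHom j.left
  haveI : GeometricallyReduced H.hom := by rw [← Over.w e]; exact GeomRedFieldLib.gr_comp Γ.hom e.left
  haveI : Smooth H.hom := AlbLib.smooth_grp H
  have hfj : fH ≫ j = f := by rw [← Category.assoc, hfH, hf']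
  refine ⟨H, inferInstance, j, PowEtCentralLib.adjEquiv ξ L' fH, inferInstance, inferInstance, inferInstance,
    inferInstance, inferInstance, hnH, ?_, fun s => ⟨(BorelLib.geom_facts s H).2.2, ?_⟩⟩
  · show (Over.mapPullbackAdj ξ).homEquiv _ _ fH ≫ _ = _
    rw [← Adjunction.homEquiv_naturality_right, hfj]
    exact MulEquiv.apply_symm_apply (PowEtCentralLib.adjEquiv ξ L') l'
  obtain ⟨a, ha⟩ := GenSub.le_of_factors f i hr j fH hfj
  have hrj : Set.range j.left.base = closure (GenSub.wordSet f) := by
    refine Set.Subset.antisymm ?_ ?_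
    · rw [← hr]; rintro _ ⟨x, rfl⟩; exact ⟨e.left.base x, rfl⟩
    · rw [← hr, ← ha]; rintro _ ⟨x, rfl⟩; exact ⟨a.left.base x, rfl⟩
  obtain ⟨algE, halg, hσ⟩ := BorelLib.exists_geomPt_algebra s
  letI : Algebra k (AlgebraicClosure ((Spec (CommRingCat.of k)).residueField s)) := algE
  haveI : Algebra.IsAlgebraic k (AlgebraicClosure ((Spec (CommRingCat.of k)).residueField s)) := halg
  unfold Red.geomFibre
  rw [hσ]
  exact hasNoSubtorus_generated l' hn hno j fH hfj hrj

end Groth.Agent.SepRad
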