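import Groth.Agent.AlmostSimpleLib.RedPtsExt
import Groth.Agent.BorelLib.RedUnip
import Groth.Agent.GrpFieldLib.Identity
import Groth.Agent.DiagRepLib.Scheme

/-!
The unipotent radical contains the unipotent normal subgroups over larger algebraically closed fields.
-/

set_option autoImplicit false
set_option linter.style.haveILetI false
set_option linter.unusedSectionVars false
set_option backward.isDefEq.respectTransparency false
set_option maxHeartbeats 1000000
set_option synthInstance.maxHeartbeats 400000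

noncomputable section

universe u

open CategoryTheory CategoryTheory.Limits MonoidalCategory CartesianMonoidalCategory AlgebraicGeometry WithConv
open scoped MonObj TensorProduct
open CoactBr (sp)
open Groth.Agent

attribute [-instance] CategoryTheory.Hom.commGroup

namespace Groth.Agent.SepRad

attribute [local instance] BorelLib.pTop BorelLib.pTopTensor

open BorelLib

variable {k : Type u} [Field k] [IsAlgClosed k] {K : Type u} [Field K] [IsAlgClosed K] [Algebra k K]

/-- A connected normal subgroup without subtorus over an algebraically closed extension lies over the radical. -/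
theorem range_subset_radical {G N : Over (Spec (CommRingCat.of k))} [GrpObj G] [GrpObj N] [IsAffine G.left]
    [Smooth G.hom] [ConnectedSpace G.left] (n : N ⟶ G) (hN : Par.IsUnipotentRadical n)
    {M : Over (Spec (CommRingCat.of K))} [GrpObj M] (m : M ⟶ Red.bc (DiagRep.baseHom k K) G) [IsMonHom m]
    [IsClosedImmersion m.left] [Smooth M.hom] [ConnectedSpace M.left] (hn : AlgGrp.IsNormalHom m)
    (hno : Red.HasNoSubtorus K M) :
    Set.range (m.left ≫ pullback.fst G.hom (DiagRep.baseHom k K)) ⊆ Set.range n.left := by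
  classical
  obtain ⟨A, _, _, v, hv, hA, hA'⟩ := exists_setup G
  haveI := hv; haveI := hA; haveI := hA'
  let q := DiagRep.baseHom k K
  haveI : IsMonHom (asIso (DiagRep.bcHom k K A)).hom := DiagRep.isMonHom_bcHom k K A
  haveI : IsMonHom (M := Red.bc q (sp k A)) (N := Red.bc q G) ((Over.pullback q).map v.hom) :=
    DiagRep.isMonHom_bc_map q v.hom
  let vK : sp K (K ⊗[k] A) ≅ Red.bc q G := (asIso (DiagRep.bcHom k K A)).symm ≪≫ (Over.pullback q).mapIso v
  haveI : IsMonHom vK.hom := by
    show IsMonHom ((asIso (DiagRep.bcHom k K A)).inv ≫ (Over.pullback q).map v.hom)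
    infer_instance
  haveI : IsAffineHom G.hom := isAffineHom_of_isAffine G.hom
  haveI : IsAffineHom (Red.bc q G).hom := inferInstanceAs (IsAffineHom (pullback.snd G.hom q))
  haveI : IsAffine (Red.bc q G).left := isAffine_of_isAffineHom (Red.bc q G).hom
  haveI : Smooth (Red.bc q G).hom := inferInstanceAs (Smooth (pullback.snd G.hom q))
  have hconn := isPreconnected_top' v
  have hu := uni_of_hasNoSubtorus vK m hno
  obtain ⟨V, _, _, _, r, hr⟩ := exists_faithful (k := k) (A := A)
  obtain ⟨U, F, hz, hUn, hres, hnil⟩ := RedExt.exists_cut (ptsSub vK m) (isClosed_ptsSub vK)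
    (isPreconnected_ptsSub vK) (conjSub_le_of_normal vK hn) hu _ V r le_rfl
  have hUc : IsClosed (U : Set (Pt k A)) := hz ▸ isClosed_zeros F
  obtain ⟨hJs, hJu⟩ := uni_of_noTor (isClosed_neut hUc) (isPreconnected_neut _) fun T hle hT =>
    eq_bot_iff.2 fun t ht => by
      obtain ⟨e, he⟩ := hnil t (neut_le _ (hle ht))
      exact Subgroup.mem_bot.2 (hT.eq_one_of_unip r hr ht he)
  have hJr : neut U ≤ radSub k A := le_radSub hconn (isPreconnected_neut _)
    (fun g => le_neut (isPreconnected_conjSub (isPreconnected_neut _)) ((conjSub_mono (neut_le _)).trans (hUn g))) hJs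
  obtain ⟨N₀, _, n₀, hn₀m, hN₀, hmax⟩ := exists_unipotentRadical v
  haveI := hn₀m
  haveI : IsClosedImmersion n₀.left := hN₀.2.1
  obtain ⟨f₀, hf₀⟩ := hN.2.2.2.2.2.2 N₀ n₀ hN₀.2.1 hN₀.2.2.1 hN₀.2.2.2.1 hN₀.2.2.2.2.1 hN₀.2.2.2.2.2.1
  obtain ⟨H, _, iU, hiU, hiUc, hHs, hUpts, -, -⟩ := exists_scheme_sub v hUc
  haveI := hiU; haveI := hiUc; haveI := hHs
  obtain ⟨H₀, _, e, he, hec, hef, her, hei, -⟩ := GrpField.exists_identity_component (G := H)
  haveI := he; haveI := hec; haveI := hef; haveI := hei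
  rw [← GrpField.connectedComponent_unit] at her
  haveI : IsLocallyNoetherian H.left := LocallyOfFiniteType.isLocallyNoetherian H.hom
  haveI : IsOpenImmersion e.left := IsOpenImmersion.of_flat_of_mono e.left
  haveI : Smooth H₀.hom := by rw [← Over.w e]; infer_instance
  haveI : IrreducibleSpace H₀.left := GeometricallyIrreducible.irreducibleSpace_of_subsingleton H₀.hom
  haveI : IsClosedImmersion (e ≫ iU).left := by rw [Over.comp_left]; infer_instance
  haveI : AlgebraicGeometry.IsReduced H₀.left := AlgSpLib.isReduced_of_smooth H₀.hom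
  obtain ⟨f₁, hf₁⟩ := exists_factor_of_le v (i := e ≫ iU) (i' := n₀)
    ((le_neut (isPreconnected_ptsSub v) (hUpts ▸ ptsSub_le_of_factor v (f := e) rfl)).trans
      (hmax _ (isPreconnected_neut _) hJr hJu))
  -- everything lands in the zero set
  have hZ : v.hom.left '' PrimeSpectrum.zeroLocus F ⊆ Set.range iU.left := by
    rintro _ ⟨p, hp, rfl⟩
    by_contra hne
    obtain ⟨g, hgF, hg⟩ := exists_pt_mem (k := k)
      (Z := PrimeSpectrum.zeroLocus F ∩ v.hom.left ⁻¹' (Set.range iU.left)ᶜ) ⟨p, hp, hne⟩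
      ((PrimeSpectrum.isClosed_zeroLocus F).isLocallyClosed.inter
        (iU.left.isClosedEmbedding.isClosed_range.isOpen_compl.preimage v.hom.left.continuous).isLocallyClosed)
    refine hg ((mem_ptsSub_iff v).1 (hUpts ▸ ?_))
    show g ∈ (U : Set (Pt k A))
    rw [hz, zeros_eq_preimage]
    exact hgF
  have e1 : (asIso (DiagRep.bcHom k K A)).inv.left ≫ pullback.fst (sp k A).hom q =
      Spec.map (CommRingCat.ofHom (Algebra.TensorProduct.includeRight : A →ₐ[k] K ⊗[k] A).toRingHom) := by
    rw [← DiagRep.bcHom_includeRight, ← Category.assoc, ← Over.comp_left]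
    simp
  have e2 : vK.hom.left ≫ pullback.fst G.hom q =
      Spec.map (CommRingCat.ofHom (Algebra.TensorProduct.includeRight : A →ₐ[k] K ⊗[k] A).toRingHom) ≫ v.hom.left := by
    rw [← e1]
    simp [vK, q, Over.pullback_map_left]
  have hfst : ∀ x : Pt K (K ⊗[k] A), pullback.fst G.hom q (AVAmpleLib.pt (ptEquiv vK x)) =
      v.hom.left (PrimeSpectrum.comap (Algebra.TensorProduct.includeRight : A →ₐ[k] K ⊗[k] A).toRingHom (toP x)) :=
    fun x => by rw [pt_ptEquiv]; exact congr($(e2).base (toP x))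
  have hstep : ∀ z : 𝟙_ (Over (Spec (CommRingCat.of K))) ⟶ M,
      pullback.fst G.hom q (AVAmpleLib.pt (z ≫ m)) ∈ Set.range iU.left := fun z => by
    obtain ⟨x, hx⟩ := (ptEquiv vK).surjective (z ≫ m)
    rw [← hx, hfst]
    refine hZ ⟨_, ?_, rfl⟩
    rw [PrimeSpectrum.mem_zeroLocus]
    intro f hf
    show Algebra.TensorProduct.includeRight f ∈ (toP x).asIdeal
    rw [toP_asIdeal]
    exact hres x ⟨z, hx.symm⟩ f hf
  have hsub : Set.range (m.left ≫ pullback.fst G.hom q) ⊆ Set.range iU.left := by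
    rintro _ ⟨y, rfl⟩
    exact AVAmpleLib.range_subset_of_points m
      (iU.left.isClosedEmbedding.isClosed_range.preimage (pullback.fst G.hom q).continuous) hstep ⟨y, rfl⟩
  have hpre : _root_.IsPreconnected (iU.left ⁻¹' Set.range (m.left ≫ pullback.fst G.hom q)) := by
    rw [← iU.left.isClosedEmbedding.isInducing.isPreconnected_image, Set.image_preimage_eq_of_subset hsub]
    exact isPreconnected_range (m.left ≫ pullback.fst G.hom q).continuous
  rintro _ ⟨y, rfl⟩
  obtain ⟨h, hh⟩ := hsub ⟨y, rfl⟩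
  have hunit : GrpField.unitPt H ∈ iU.left ⁻¹' Set.range (m.left ≫ pullback.fst G.hom q) := by
    refine ⟨AVAmpleLib.pt (1 : 𝟙_ (Over (Spec (CommRingCat.of K))) ⟶ M), ?_⟩
    have h1 : PrimeSpectrum.comap (Algebra.TensorProduct.includeRight : A →ₐ[k] K ⊗[k] A).toRingHom
        (toP (1 : Pt K (K ⊗[k] A))) = toP (1 : Pt k A) := by
      refine PrimeSpectrum.ext (Ideal.ext fun a => ?_)
      rw [PrimeSpectrum.comap_asIdeal, Ideal.mem_comap, toP_asIdeal, toP_asIdeal, RingHom.mem_ker, RingHom.mem_ker]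
      show RedExt.res (1 : Pt K (K ⊗[k] A)) a = 0 ↔ (1 : Pt k A).ofConv a = 0
      rw [RedExt.res_one, AlgHom.convOne_apply, map_eq_zero]
      simp
    have h2 : ((1 : 𝟙_ (Over (Spec (CommRingCat.of K))) ⟶ M) ≫ m) = ptEquiv vK 1 := by rw [MonObj.one_comp, map_one]
    have h3 : AVAmpleLib.pt (ptEquiv v (1 : Pt k A)) = iU.left (GrpField.unitPt H) := by
      rw [map_one, ← MonObj.one_comp iU, ← ChevThmLib.eta_eq_one]
      rfl
    refine Eq.trans ?_ h3
    show pullback.fst G.hom q (AVAmpleLib.pt ((1 : 𝟙_ (Over (Spec (CommRingCat.of K))) ⟶ M) ≫ m)) = _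
    rw [h2, hfst, h1, pt_ptEquiv]
  have hh' : h ∈ Set.range e.left := by
    rw [her]
    exact hpre.subset_connectedComponent hunit ⟨y, hh.symm⟩
  obtain ⟨h₀, rfl⟩ := hh'
  refine ⟨f₀.left (f₁.left h₀), ?_⟩
  rw [← hh, ← Scheme.Hom.comp_apply, ← Scheme.Hom.comp_apply, ← Over.comp_left, hf₀, ← Over.comp_left, hf₁,
    Over.comp_left, Scheme.Hom.comp_apply]

end Groth.Agent.SepRad
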